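import Cfsg.Prelude.Def_KGroupFacts
import Cfsg.Agent.Lib.Extraspecial.Structure
import Cfsg.Agent.Lib.Forms.Bridge

/-!
Coordinates on an extraspecial 2-group, and its outer automorphism group.
-/

set_option autoImplicit false

namespace Cfsg.Agent.Lib.ExtraTwoCoord

open Subgroup Cfsg.Agent.Lib.ExtraStruct
open scoped commutatorElement

universe u

variable {E : Type u} [Group E]

/-- `0` at the identity, `1` elsewhere. -/
noncomputable def bit (c : E) : ZMod 2 :=
  open scoped Classical in if c = 1 then 0 else 1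

theorem bit_eq_zero {c : E} : bit c = 0 ↔ c = 1 := by
  unfold bit
  split_ifs with h <;> simp [h]

theorem bit_one : bit (1 : E) = 0 := bit_eq_zero.2 rfl

theorem bit_eq_one {c : E} : bit c = 1 ↔ c ≠ 1 := by
  unfold bit
  split_ifs with h <;> simp [h]

theorem zmod_two_cases (a : ZMod 2) : a = 0 ∨ a = 1 := by revert a; decide

variable [Finite E] [Fact (Nat.Prime 2)] (h : ExtraLike 2 E)
include h

theorem center_sq {c : E} (hc : c ∈ center E) : c * c = 1 := by
  rcases eq_or_ne c 1 with rfl | h1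
  · exact one_mul 1
  · rw [← sq, ← orderOf_eq_of_mem_center h hc h1]; exact pow_orderOf_eq_one c

theorem bit_mul {c d : E} (hc : c ∈ center E) (hd : d ∈ center E) : bit (c * d) = bit c + bit d := by
  rcases eq_or_ne c 1 with rfl | hc1
  · rw [one_mul, bit_one, zero_add]
  rcases eq_or_ne d 1 with rfl | hd1
  · rw [mul_one, bit_one, add_zero]
  rw [eq_of_mem_center_two h hd hd1 hc hc1, center_sq h hc, bit_one, bit_eq_one.2 hc1]
  rfl

theorem bit_comm_mul_left (a b c : E) : bit ⁅a * b, c⁆ = bit ⁅a, c⁆ + bit ⁅b, c⁆ := by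
  rw [Extraspecial.commutator_mul_left (h.comm_mem b c), bit_mul h (h.comm_mem a c) (h.comm_mem b c)]

theorem bit_comm_mul_right (a b c : E) : bit ⁅a, b * c⁆ = bit ⁅a, b⁆ + bit ⁅a, c⁆ := by
  rw [Extraspecial.commutator_mul_right (h.comm_mem a c), bit_mul h (h.comm_mem a b) (h.comm_mem a c)]

theorem bit_comm_symm (a b : E) : bit ⁅a, b⁆ = bit ⁅b, a⁆ := by
  rw [← commutatorElement_inv b a, inv_eq_of_mul_eq_one_right (center_sq h (h.comm_mem b a))]

theorem bit_sq_mul (a b : E) :
    bit ((a * b) ^ 2) = bit (a ^ 2) + bit (b ^ 2) + bit ⁅a, b⁆ := by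
  rw [Extraspecial.mul_pow_eq (h.comm_mem b a), show Nat.choose 2 2 = 1 from rfl, pow_one,
    bit_mul h (mul_mem (h.pow_mem a) (h.pow_mem b)) (h.comm_mem b a),
    bit_mul h (h.pow_mem a) (h.pow_mem b), bit_comm_symm h b a]

/-- `g ↦ (⁅g, w i⁆)ᵢ`. -/
noncomputable def coordHom {ι : Type} (w : ι → E) : E →* Multiplicative (ι → ZMod 2) where
  toFun g := Multiplicative.ofAdd fun i => bit ⁅g, w i⁆
  map_one' := by simp [bit_one, commutatorElement_one_left]; rfl
  map_mul' a b := congrArg Multiplicative.ofAdd (funext fun i => bit_comm_mul_left h a b (w i))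

theorem center_le_ker_coordHom {ι : Type} (w : ι → E) : center E ≤ (coordHom h w).ker := fun c hc =>
  congrArg Multiplicative.ofAdd (funext fun i => bit_eq_zero.2
    (commutatorElement_eq_one_iff_mul_comm.2 (mem_center_iff.1 hc (w i)).symm))

omit h in
theorem eq_top_of_singles {ι : Type} [Fintype ι] [DecidableEq ι]
    {π : E →* Multiplicative (ι → ZMod 2)} {H : Subgroup E} (hker : π.ker ≤ H)
    (hs : ∀ i, ∃ g ∈ H, π g = Multiplicative.ofAdd (Pi.single i 1)) : H = ⊤ := by
  refine eq_top_iff.2 fun g _ => ?_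
  have key : ∀ v : ι → ZMod 2, Multiplicative.ofAdd v ∈ H.map π := by
    intro v
    rw [← Finset.univ_sum_single v, ofAdd_sum]
    refine prod_mem fun i _ => ?_
    rcases zmod_two_cases (v i) with e | e <;> rw [e]
    · rw [Pi.single_zero]; exact one_mem _
    · obtain ⟨g, hg, hg'⟩ := hs i; exact ⟨g, hg, hg'⟩
  obtain ⟨g', hg', he⟩ := key (Multiplicative.toAdd (π g))
  have hk : g'⁻¹ * g ∈ π.ker := by
    rw [MonoidHom.mem_ker, map_mul, map_inv, he]; simp
  have := mul_mem hg' (hker hk)
  simpa using this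

/-- A symplectic family with prescribed squares gives coordinates carrying squaring to `Q`. -/
theorem exists_coord {ι : Type} [Fintype ι] [DecidableEq ι]
    (hcard : Nat.card E = 2 * 2 ^ Fintype.card ι) (σ : ι → ι) (hσ : Function.Involutive σ)
    (Q : (ι → ZMod 2) → ZMod 2) (hQ : ∀ u v, Q (u + v) = Q u + Q v + ∑ i, u i * v (σ i))
    (w : ι → E) (hw : ∀ i j, bit ⁅w i, w j⁆ = if j = σ i then 1 else 0)
    (hsq : ∀ i, bit (w i ^ 2) = Q (Pi.single i 1)) :
    ∃ π : E →* Multiplicative (ι → ZMod 2), Function.Surjective π ∧ π.ker = center E ∧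
      ∀ g, (g ^ 2 = 1 ↔ Q (Multiplicative.toAdd (π g)) = 0) := by
  set π := coordHom h (fun i => w (σ i)) with hπdef
  have hπ : ∀ g i, Multiplicative.toAdd (π g) i = bit ⁅g, w (σ i)⁆ := fun g i => rfl
  have hπw : ∀ i, π (w i) = Multiplicative.ofAdd (Pi.single i 1) := fun i =>
    Multiplicative.toAdd.injective (funext fun k => by
      rw [hπ, hw, toAdd_ofAdd, Pi.single_apply]
      exact if_congr hσ.injective.eq_iff rfl rfl)
  have hsurj : Function.Surjective π := by
    have htop : π.range = ⊤ := by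
      refine eq_top_iff.2 fun v _ => ?_
      rw [← ofAdd_toAdd v, ← Finset.univ_sum_single (Multiplicative.toAdd v), ofAdd_sum]
      refine prod_mem fun i _ => ?_
      rcases zmod_two_cases (Multiplicative.toAdd v i) with e | e <;> rw [e]
      · rw [Pi.single_zero]; exact one_mem _
      · exact ⟨w i, hπw i⟩
    exact MonoidHom.range_eq_top.1 htop
  have hker : π.ker = center E := by
    refine (eq_of_le_of_card_ge (center_le_ker_coordHom h _) ?_).symm
    have h1 := card_mul_index π.ker
    rw [index_ker, MonoidHom.range_eq_top.mpr hsurj, card_top, hcard,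
      Nat.card_eq_fintype_card (α := Multiplicative (ι → ZMod 2))] at h1
    simp only [Fintype.card_multiplicative, Fintype.card_fun, ZMod.card] at h1
    rw [h.card_center]
    exact le_of_eq (Nat.eq_of_mul_eq_mul_right (by positivity) h1)
  refine ⟨π, hsurj, hker, fun g => ?_⟩
  have hQ0 : Q 0 = 0 := by simpa using hQ 0 0
  have hpol : ∀ a b : E, bit ⁅a, b⁆ =
      ∑ i, Multiplicative.toAdd (π a) i * Multiplicative.toAdd (π b) (σ i) := by
    intro a
    let H : Subgroup E :=
      { carrier := {b | bit ⁅a, b⁆ =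
          ∑ i, Multiplicative.toAdd (π a) i * Multiplicative.toAdd (π b) (σ i)}
        one_mem' := by simp [bit_one, commutatorElement_one_right]
        mul_mem' := fun {b c} hb hc => by
          simp only [Set.mem_setOf_eq] at *
          rw [bit_comm_mul_right h, hb, hc, ← Finset.sum_add_distrib, map_mul]
          exact Finset.sum_congr rfl fun i _ => by rw [toAdd_mul, Pi.add_apply, mul_add]
        inv_mem' := fun {b} hb => by
          simp only [Set.mem_setOf_eq] at *
          have h1 := bit_comm_mul_right h a b b⁻¹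
          rw [mul_inv_cancel, commutatorElement_one_right, bit_one, hb] at h1
          rw [map_inv, toAdd_inv]
          simp only [Pi.neg_apply, mul_neg, Finset.sum_neg_distrib]
          exact eq_neg_of_add_eq_zero_right h1.symm }
    have hH : H = ⊤ := by
      refine eq_top_of_singles (π := π) (fun c hc => ?_) fun j => ⟨w j, ?_, hπw j⟩
      · show bit ⁅a, c⁆ = _
        rw [bit_eq_zero.2 (commutatorElement_eq_one_iff_mul_comm.2
          (mem_center_iff.1 (hker ▸ hc) a)), MonoidHom.mem_ker.1 hc]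
        simp
      · show bit ⁅a, w j⁆ = _
        rw [hπw, toAdd_ofAdd, Finset.sum_eq_single (σ j)]
        · rw [hσ j, Pi.single_eq_same, mul_one, hπ, hσ j]
        · intro i _ hi
          rw [Pi.single_eq_of_ne (fun e => hi (by rw [← e, hσ i])), mul_zero]
        · simp
    intro b
    exact (show b ∈ H from hH ▸ mem_top b)
  let H : Subgroup E :=
    { carrier := {b | bit (b ^ 2) = Q (Multiplicative.toAdd (π b))}
      one_mem' := by simp [bit_one, hQ0]
      mul_mem' := fun {b c} hb hc => by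
        simp only [Set.mem_setOf_eq] at *
        rw [bit_sq_mul h, hb, hc, hpol, map_mul, toAdd_mul, hQ]
      inv_mem' := fun {b} hb => by
        simp only [Set.mem_setOf_eq] at *
        have e : -(Multiplicative.toAdd (π b)) = Multiplicative.toAdd (π b) :=
          funext fun i => by rw [Pi.neg_apply, ZMod.neg_eq_self_mod_two]
        rw [map_inv, toAdd_inv, e, inv_pow,
          inv_eq_of_mul_eq_one_right (center_sq h (h.pow_mem b)), hb] }
  have hH : H = ⊤ := by
    refine eq_top_of_singles (π := π) (fun c hc => ?_) fun j => ⟨w j, ?_, hπw j⟩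
    · show bit (c ^ 2) = _
      rw [sq, center_sq h (hker ▸ hc), bit_one, MonoidHom.mem_ker.1 hc, toAdd_one, hQ0]
    · show bit (w j ^ 2) = _
      rw [hπw, toAdd_ofAdd, hsq]
  have hg : bit (g ^ 2) = Q (Multiplicative.toAdd (π g)) := (show g ∈ H from hH ▸ mem_top g)
  rw [← hg, bit_eq_zero]

/-- Every isometry of the coordinate space lifts to an automorphism. -/
theorem exists_lift {ι : Type} [Fintype ι] [DecidableEq ι] {Q : (ι → ZMod 2) → ZMod 2}
    {π : E →* Multiplicative (ι → ZMod 2)} (hsurj : Function.Surjective π) (hker : π.ker = center E)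
    (hq : ∀ g, (g ^ 2 = 1 ↔ Q (Multiplicative.toAdd (π g)) = 0))
    (T : (ι → ZMod 2) ≃ₗ[ZMod 2] (ι → ZMod 2)) (hT : ∀ v, Q (T v) = Q v) :
    ∃ α : MulAut E, ∀ g, Multiplicative.toAdd (π (α g)) = T (Multiplicative.toAdd (π g)) := by
  obtain ⟨z, hz, hz1⟩ := exists_center_ne_one h
  have hπz : π z = 1 := MonoidHom.mem_ker.1 (hker.symm ▸ hz)
  let D : Subgroup (E × E) :=
    { carrier := {p | Multiplicative.toAdd (π p.2) = T (Multiplicative.toAdd (π p.1))}
      one_mem' := by simp
      mul_mem' := fun {a b} ha hb => by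
        simp only [Set.mem_setOf_eq, Prod.fst_mul, Prod.snd_mul, map_mul, toAdd_mul, map_add] at *
        rw [ha, hb]
      inv_mem' := fun {a} ha => by
        simp only [Set.mem_setOf_eq, Prod.fst_inv, Prod.snd_inv, map_inv, toAdd_inv, map_neg] at *
        rw [ha] }
  have hsqD : ∀ p ∈ D, p * p = 1 ∨ p * p = (z, z) := by
    rintro ⟨a, b⟩ hp
    have hp' : Multiplicative.toAdd (π b) = T (Multiplicative.toAdd (π a)) := hp
    have e : a ^ 2 = 1 ↔ b ^ 2 = 1 := by rw [hq a, hq b, hp', hT]
    by_cases ha : a ^ 2 = 1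
    · left
      ext <;> simp only [Prod.fst_mul, Prod.snd_mul, Prod.fst_one, Prod.snd_one, ← sq]
      exacts [ha, e.1 ha]
    · right
      ext <;> simp only [Prod.fst_mul, Prod.snd_mul, ← sq]
      exacts [eq_of_mem_center_two h (h.pow_mem a) ha hz hz1,
        eq_of_mem_center_two h (h.pow_mem b) (fun hb => ha (e.2 hb)) hz hz1]
  have hzzD : (z, z) ∈ D := by simp [D, hπz]
  have hzD : (z, (1 : E)) ∈ D := by simp [D, hπz]
  -- a subgroup of `D` maximal among those containing `(z, z)` and avoiding `(z, 1)`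
  have hz0 : (z, (1 : E)) ∉ zpowers ((z, z) : E × E) := by
    rintro ⟨n, hn⟩
    have e2 : z ^ n = 1 := congrArg Prod.snd hn
    have e1 : z ^ n = z := congrArg Prod.fst hn
    exact hz1 (e1.symm.trans e2)
  obtain ⟨W, hW, hmax⟩ := Set.Finite.exists_maximal
    (s := {W : Subgroup (E × E) | W ≤ D ∧ (z, z) ∈ W ∧ (z, (1 : E)) ∉ W}) (Set.toFinite _)
    ⟨zpowers (z, z), zpowers_le.2 hzzD, mem_zpowers _, hz0⟩
  obtain ⟨hWD, hzzW, hzW⟩ := hW
  have sqW : ∀ p ∈ D, p * p ∈ W := fun p hp => by
    rcases hsqD p hp with e | e <;> rw [e]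
    exacts [one_mem _, hzzW]
  have conjW : ∀ g ∈ D, ∀ w ∈ W, g * w * g⁻¹ ∈ W := by
    intro g hg w hw
    have e : g * w * g⁻¹ = (g * g) * ((g⁻¹ * w) * (g⁻¹ * w)) * w⁻¹ := by group
    rw [e]
    exact mul_mem (mul_mem (sqW g hg) (sqW _ (mul_mem (inv_mem hg) (hWD hw)))) (inv_mem hw)
  have key : ∀ g ∈ D, g ∈ W ∨ g * (z, 1) ∈ W := by
    intro g hg
    by_cases hgW : g ∈ W
    · exact Or.inl hgW
    right
    let H : Subgroup (E × E) :=
      { carrier := {k | k ∈ W ∨ g * k ∈ W}
        one_mem' := Or.inl (one_mem _)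
        mul_mem' := fun {a b} ha hb => by
          simp only [Set.mem_setOf_eq] at *
          rcases ha with ha | ha <;> rcases hb with hb | hb
          · exact Or.inl (mul_mem ha hb)
          · right
            have e : g * (a * b) = (g * a * g⁻¹) * (g * b) := by group
            rw [e]; exact mul_mem (conjW g hg a ha) hb
          · right; rw [← mul_assoc]; exact mul_mem ha hb
          · left
            have e : a * b = (g⁻¹ * (g * a) * g⁻¹⁻¹) * (g * g)⁻¹ * (g * b) := by group
            rw [e]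
            exact mul_mem (mul_mem (conjW _ (inv_mem hg) _ ha) (inv_mem (sqW g hg))) hb
        inv_mem' := fun {a} ha => by
          simp only [Set.mem_setOf_eq] at *
          rcases ha with ha | ha
          · exact Or.inl (inv_mem ha)
          · right
            have e : g * a⁻¹ = (g * (g * a)⁻¹ * g⁻¹) * (g * g) := by group
            rw [e]; exact mul_mem (conjW g hg _ (inv_mem ha)) (sqW g hg) }
    have hWH : W ≤ H := fun w hw => Or.inl hw
    have hgH : g ∈ H := Or.inr (sqW g hg)
    have hHD : H ≤ D := by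
      rintro k (hk | hk)
      · exact hWD hk
      · simpa using mul_mem (inv_mem hg) (hWD hk)
    by_contra hcon
    have hzH : (z, (1 : E)) ∉ H := fun h' => h'.elim hzW hcon
    exact hgW (hmax (y := H) ⟨hHD, hWH hzzW, hzH⟩ hWH hgH)
  -- `W` is the graph of an automorphism
  let f₁ : W →* E := (MonoidHom.fst E E).comp W.subtype
  let f₂ : W →* E := (MonoidHom.snd E E).comp W.subtype
  have hf₁ : Function.Bijective f₁ := by
    constructor
    · rw [← MonoidHom.ker_eq_bot_iff, eq_bot_iff]
      rintro ⟨⟨a, b⟩, hp⟩ hab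
      have ha : a = 1 := hab
      subst ha
      have hb : Multiplicative.toAdd (π b) = T (Multiplicative.toAdd (π (1 : E))) := hWD hp
      rw [map_one, toAdd_one, map_zero] at hb
      have hbc : b ∈ center E := hker ▸ MonoidHom.mem_ker.2 (Multiplicative.toAdd.injective (by simpa using hb))
      rcases eq_or_ne b 1 with rfl | hb1
      · exact mem_bot.2 rfl
      · exfalso
        have := mul_mem hp hzzW
        rw [Prod.mk_mul_mk, one_mul, eq_of_mem_center_two h hbc hb1 hz hz1, center_sq h hz] at this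
        exact hzW this
    · intro a
      obtain ⟨b, hb⟩ := hsurj (Multiplicative.ofAdd (T (Multiplicative.toAdd (π a))))
      have hD : ((a, b) : E × E) ∈ D := by simp [D, hb]
      rcases key _ hD with h' | h'
      · exact ⟨⟨_, h'⟩, rfl⟩
      · refine ⟨⟨_, mul_mem h' hzzW⟩, ?_⟩
        show a * z * z = a
        rw [mul_assoc, center_sq h hz, mul_one]
  let α₀ : E →* E := f₂.comp (MulEquiv.ofBijective f₁ hf₁).symm.toMonoidHom
  have hα : ∀ g, Multiplicative.toAdd (π (α₀ g)) = T (Multiplicative.toAdd (π g)) := by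
    intro g
    obtain ⟨p, rfl⟩ := hf₁.2 g
    have : (MulEquiv.ofBijective f₁ hf₁).symm (f₁ p) = p := by
      rw [MulEquiv.symm_apply_eq]; rfl
    show Multiplicative.toAdd (π (f₂ ((MulEquiv.ofBijective f₁ hf₁).symm (f₁ p)))) = _
    rw [this]
    exact hWD p.2
  have hinj : Function.Injective α₀ := by
    rw [← MonoidHom.ker_eq_bot_iff, eq_bot_iff]
    intro g hg
    rw [MonoidHom.mem_ker] at hg
    obtain ⟨⟨⟨a, b⟩, hp⟩, rfl⟩ := hf₁.2 g
    have hb : b = 1 := by
      have : (MulEquiv.ofBijective f₁ hf₁).symm (f₁ ⟨(a, b), hp⟩) = ⟨(a, b), hp⟩ := by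
        rw [MulEquiv.symm_apply_eq]; rfl
      simpa [α₀, f₂, this] using hg
    subst hb
    have hT0 : Multiplicative.toAdd (π (1 : E)) = T (Multiplicative.toAdd (π a)) := hWD hp
    rw [map_one, toAdd_one, eq_comm, LinearEquiv.map_eq_zero_iff] at hT0
    have hac : a ∈ center E :=
      hker ▸ MonoidHom.mem_ker.2 (Multiplicative.toAdd.injective (by simpa using hT0))
    rcases eq_or_ne a 1 with rfl | ha1
    · exact mem_bot.2 rfl
    · exact absurd (eq_of_mem_center_two h hz hz1 hac ha1 ▸ hp) hzW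
  exact ⟨MulEquiv.ofBijective α₀ (Finite.injective_iff_bijective.1 hinj), hα⟩

/-- `Out E` is the isometry group of the coordinate space. -/
theorem nonempty_out_equiv {ι : Type} [Fintype ι] [DecidableEq ι] {Q : (ι → ZMod 2) → ZMod 2}
    {π : E →* Multiplicative (ι → ZMod 2)} (hsurj : Function.Surjective π) (hker : π.ker = center E)
    (hq : ∀ g, (g ^ 2 = 1 ↔ Q (Multiplicative.toAdd (π g)) = 0)) :
    Nonempty (Cfsg.Out E ≃* Cfsg.isometryGroup (ZMod 2) Q) := by
  classical
  obtain ⟨s, hs⟩ := hsurj.hasRightInverse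
  have hfix : ∀ (α : MulAut E) (g : E), π g = 1 → π (α g) = 1 := by
    intro α g hg
    have hgc : g ∈ center E := hker ▸ MonoidHom.mem_ker.2 hg
    refine MonoidHom.mem_ker.1 (hker.symm ▸ mem_center_iff.2 fun x => ?_)
    obtain ⟨y, rfl⟩ := α.surjective x
    rw [← map_mul, ← map_mul, mem_center_iff.1 hgc y]
  have hind : ∀ (α : MulAut E) (g g' : E), π g = π g' → π (α g) = π (α g') := by
    intro α g g' e
    have := hfix α (g⁻¹ * g') (by rw [map_mul, map_inv, e, inv_mul_cancel])
    rwa [map_mul, map_inv, map_mul, map_inv, inv_mul_eq_one] at this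
  -- the induced linear maps
  let lin : MulAut E → ((ι → ZMod 2) →+ (ι → ZMod 2)) := fun α =>
    AddMonoidHom.mk' (fun v => Multiplicative.toAdd (π (α (s (Multiplicative.ofAdd v))))) fun u v => by
      show _ = Multiplicative.toAdd _ + Multiplicative.toAdd _
      rw [← toAdd_mul, ← map_mul, ← map_mul]
      exact congrArg Multiplicative.toAdd (hind α _ _ (by rw [hs, map_mul, hs, hs, ofAdd_add]))
  have lin_π : ∀ α g, lin α (Multiplicative.toAdd (π g)) = Multiplicative.toAdd (π (α g)) :=
    fun α g => congrArg Multiplicative.toAdd (hind α _ _ (by rw [hs, ofAdd_toAdd]))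
  have lin_mul : ∀ α β v, lin (α * β) v = lin α (lin β v) := by
    intro α β v
    obtain ⟨g, hg⟩ := hsurj (Multiplicative.ofAdd v)
    have hv : v = Multiplicative.toAdd (π g) := by rw [hg]; rfl
    rw [hv, lin_π, lin_π, lin_π]
    rfl
  have lin_one : ∀ v, lin 1 v = v := by
    intro v
    obtain ⟨g, hg⟩ := hsurj (Multiplicative.ofAdd v)
    have hv : v = Multiplicative.toAdd (π g) := by rw [hg]; rfl
    rw [hv, lin_π]
    rfl
  let eqv : MulAut E → ((ι → ZMod 2) ≃ₗ[ZMod 2] (ι → ZMod 2)) := fun α =>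
    LinearEquiv.ofLinearMap (AddMonoidHom.toZModLinearMap 2 (lin α))
      (AddMonoidHom.toZModLinearMap 2 (lin α⁻¹))
      (LinearMap.ext fun v => by
        show lin α (lin α⁻¹ v) = v
        rw [← lin_mul, mul_inv_cancel, lin_one])
      (LinearMap.ext fun v => by
        show lin α⁻¹ (lin α v) = v
        rw [← lin_mul, inv_mul_cancel, lin_one])
  have eqv_π : ∀ α g, eqv α (Multiplicative.toAdd (π g)) = Multiplicative.toAdd (π (α g)) := lin_π
  have eqv_Q : ∀ α v, Q (eqv α v) = Q v := by
    intro α v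
    obtain ⟨g, hg⟩ := hsurj (Multiplicative.ofAdd v)
    have hv : v = Multiplicative.toAdd (π g) := by rw [hg]; rfl
    rw [hv, eqv_π]
    have e : (α g) ^ 2 = 1 ↔ g ^ 2 = 1 := by rw [← map_pow, MulEquiv.map_eq_one_iff]
    rw [hq, hq] at e
    rcases zmod_two_cases (Q (Multiplicative.toAdd (π g))) with h0 | h0
    · rw [h0, e.2 h0]
    · rcases zmod_two_cases (Q (Multiplicative.toAdd (π (α g)))) with h1 | h1
      · rw [e.1 h1] at h0; exact absurd h0 zero_ne_one
      · rw [h0, h1]
  let Φ : MulAut E →* Cfsg.isometryGroup (ZMod 2) Q :=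
    MonoidHom.mk' (fun α => Forms.isoMk (eqv α) (eqv_Q α)) fun α β => by
      refine Forms.isoToEquiv_injective Q ?_
      rw [map_mul, Forms.isoToEquiv_isoMk, Forms.isoToEquiv_isoMk, Forms.isoToEquiv_isoMk]
      exact LinearEquiv.ext (lin_mul α β)
  have hΦ : Function.Surjective Φ := by
    intro T
    obtain ⟨α, hα⟩ := exists_lift h hsurj hker hq (Forms.isoToEquiv Q T)
      (fun v => Forms.isometryGroup_apply T v)
    refine ⟨α, Forms.isoToEquiv_injective Q ?_⟩
    show Forms.isoToEquiv Q (Forms.isoMk (eqv α) (eqv_Q α)) = _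
    rw [Forms.isoToEquiv_isoMk]
    refine LinearEquiv.ext fun v => ?_
    obtain ⟨g, hg⟩ := hsurj (Multiplicative.ofAdd v)
    have hv : v = Multiplicative.toAdd (π g) := by rw [hg]; rfl
    rw [hv, eqv_π, hα]
  have hmemker : ∀ α, α ∈ Φ.ker ↔ ∀ g, π (α g) = π g := by
    intro α
    constructor
    · intro hα g
      have e : Forms.isoToEquiv Q (Φ α) = 1 := by rw [MonoidHom.mem_ker.1 hα, map_one]
      rw [show Φ α = Forms.isoMk (eqv α) (eqv_Q α) from rfl, Forms.isoToEquiv_isoMk] at e
      refine Multiplicative.toAdd.injective ?_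
      rw [← eqv_π, e]
      rfl
    · intro hα
      refine MonoidHom.mem_ker.2 (Forms.isoToEquiv_injective Q ?_)
      rw [show Φ α = Forms.isoMk (eqv α) (eqv_Q α) from rfl, Forms.isoToEquiv_isoMk, map_one]
      refine LinearEquiv.ext fun v => ?_
      obtain ⟨g, hg⟩ := hsurj (Multiplicative.ofAdd v)
      have hv : v = Multiplicative.toAdd (π g) := by rw [hg]; rfl
      rw [hv, eqv_π, hα]
      rfl
  have hle : Cfsg.Inn E ≤ Φ.ker := by
    rintro _ ⟨a, rfl⟩
    rw [hmemker]
    intro g
    rw [MulAut.conj_apply, map_mul, map_mul, map_inv]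
    exact mul_inv_cancel_comm _ _
  have hcardInn : Nat.card (Cfsg.Inn E) = 2 ^ Fintype.card ι := by
    have e1 : (MulAut.conj : E →* MulAut E).ker = π.ker := by
      ext a
      rw [hker, MonoidHom.mem_ker, mem_center_iff, MulEquiv.ext_iff]
      refine forall_congr' fun x => ?_
      rw [MulAut.conj_apply, MulAut.one_apply, mul_inv_eq_iff_eq_mul, eq_comm]
    rw [← index_ker, e1, index_ker, MonoidHom.range_eq_top.mpr hsurj, card_top,
      Nat.card_eq_fintype_card, Fintype.card_multiplicative, Fintype.card_fun, ZMod.card]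
  have hK : Φ.ker = Cfsg.Inn E := by
    refine (eq_of_le_of_card_ge hle ?_).symm
    rw [hcardInn]
    let φ : Φ.ker → ι → Bool := fun α i =>
      decide ((α : MulAut E) (s (Multiplicative.ofAdd (Pi.single i 1))) =
        s (Multiplicative.ofAdd (Pi.single i 1)))
    have hφ : Function.Injective φ := by
      rintro ⟨α, hα⟩ ⟨β, hβ⟩ e
      rw [hmemker] at hα hβ
      obtain ⟨z, hz, hz1⟩ := exists_center_ne_one h
      have hfixc : ∀ (γ : MulAut E) (c : E), c ∈ center E → γ c = c := by
        intro γ c hc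
        rcases eq_or_ne c 1 with rfl | hc1
        · exact map_one γ
        · exact eq_of_mem_center_two h
            (hker ▸ MonoidHom.mem_ker.2 (hfix γ c (MonoidHom.mem_ker.1 (hker.symm ▸ hc))))
            (fun e => hc1 ((MulEquiv.map_eq_one_iff γ).1 e)) hc hc1
      refine Subtype.ext (MulEquiv.toMonoidHom_injective (MonoidHom.ext fun x => ?_))
      have htop : MonoidHom.eqLocus α.toMonoidHom β.toMonoidHom = ⊤ := by
        refine eq_top_of_singles (π := π) (fun c hc => ?_) fun i => ⟨_, ?_, hs _⟩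
        · show α c = β c
          rw [hfixc α c (hker ▸ hc), hfixc β c (hker ▸ hc)]
        · set g := s (Multiplicative.ofAdd (Pi.single i 1)) with hg
          show α g = β g
          have ei : decide (α g = g) = decide (β g = g) := congrFun e i
          rw [decide_eq_decide] at ei
          by_cases ha : α g = g
          · rw [ha, ei.1 ha]
          have hb : β g ≠ g := fun e' => ha (ei.2 e')
          have da : g⁻¹ * α g ∈ center E :=
            hker ▸ MonoidHom.mem_ker.2 (by rw [map_mul, map_inv, hα, inv_mul_cancel])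
          have db : g⁻¹ * β g ∈ center E :=
            hker ▸ MonoidHom.mem_ker.2 (by rw [map_mul, map_inv, hβ, inv_mul_cancel])
          exact mul_left_cancel (eq_of_mem_center_two h da (fun e' => ha (inv_mul_eq_one.1 e').symm)
            db (fun e' => hb (inv_mul_eq_one.1 e').symm))
      exact (show x ∈ MonoidHom.eqLocus α.toMonoidHom β.toMonoidHom from htop ▸ mem_top x)
    refine (Nat.card_le_card_of_injective φ hφ).trans (le_of_eq ?_)
    rw [Nat.card_eq_fintype_card, Fintype.card_fun, Fintype.card_bool]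
  exact ⟨(QuotientGroup.quotientMulEquivOfEq hK.symm).trans
    (QuotientGroup.quotientKerEquivOfSurjective Φ hΦ)⟩

/-- All pairs but one can be taken to be pairs of involutions. -/
theorem exists_family (k : ℕ) (hcard : Nat.card E = 2 ^ (2 * k + 3)) :
    ∃ (e : ZMod 2) (x y : Fin k → E) (p q : E),
      (∀ i, bit (x i ^ 2) = 0) ∧ (∀ i, bit (y i ^ 2) = 0) ∧
      bit (p ^ 2) = e ∧ bit (q ^ 2) = e ∧ bit ⁅p, q⁆ = 1 ∧
      (∀ i j, bit ⁅x i, y j⁆ = if i = j then 1 else 0) ∧
      (∀ i j, bit ⁅x i, x j⁆ = 0) ∧ (∀ i j, bit ⁅y i, y j⁆ = 0) ∧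
      (∀ i, bit ⁅x i, p⁆ = 0) ∧ (∀ i, bit ⁅x i, q⁆ = 0) ∧
      (∀ i, bit ⁅y i, p⁆ = 0) ∧ (∀ i, bit ⁅y i, q⁆ = 0) := by
  induction k generalizing E with
  | zero =>
    obtain ⟨p, q, hpq, hd⟩ := exists_pair_of_card_eight h (hcard.trans (by norm_num))
    rcases hd with ⟨-, hp, hq⟩ | ⟨-, hp, hq⟩
    · exact ⟨0, Fin.elim0, Fin.elim0, p, q, fun i => i.elim0, fun i => i.elim0,
        bit_eq_zero.2 hp, bit_eq_zero.2 hq, bit_eq_one.2 hpq, fun i => i.elim0, fun i => i.elim0,
        fun i => i.elim0, fun i => i.elim0, fun i => i.elim0, fun i => i.elim0, fun i => i.elim0⟩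
    · exact ⟨1, Fin.elim0, Fin.elim0, p, q, fun i => i.elim0, fun i => i.elim0,
        bit_eq_one.2 hp, bit_eq_one.2 hq, bit_eq_one.2 hpq, fun i => i.elim0, fun i => i.elim0,
        fun i => i.elim0, fun i => i.elim0, fun i => i.elim0, fun i => i.elim0, fun i => i.elim0⟩
  | succ k ih =>
    obtain ⟨a, b, hab, ha, hb⟩ := exists_pair_involutions h (hasInvolution_of_card h
      (hcard ▸ (Nat.pow_lt_pow_right (a := 2) (by norm_num) (by omega : 3 < 2 * (k + 1) + 3))))
    have hC : Nat.card (centralizer ({a, b} : Set E)) = 2 ^ (2 * k + 3) := by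
      have e := card_eq_mul h hab
      rw [hcard, show 2 * (k + 1) + 3 = 2 + (2 * k + 3) by ring, pow_add] at e
      exact (Nat.eq_of_mul_eq_mul_left (by norm_num) e).symm
    obtain ⟨e, x, y, p, q, hx, hy, hp, hq, hpq, hxy, hxx, hyy, hxp, hxq, hyp, hyq⟩ :=
      ih (E := centralizer ({a, b} : Set E)) (extraLike_centralizer h hab) hC
    have hcoe : ∀ c : centralizer ({a, b} : Set E), bit (c : E) = bit c := fun c => by
      rcases eq_or_ne c 1 with rfl | hc
      · rw [OneMemClass.coe_one, bit_one, bit_one]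
      · rw [bit_eq_one.2 hc, bit_eq_one.2 (fun e => hc (Subtype.ext e))]
    have hsq : ∀ c : centralizer ({a, b} : Set E), bit ((c : E) ^ 2) = bit (c ^ 2) := fun c =>
      hcoe (c ^ 2)
    have hcm : ∀ c d : centralizer ({a, b} : Set E), bit ⁅(c : E), (d : E)⁆ = bit ⁅c, d⁆ :=
      fun c d => hcoe ⁅c, d⁆
    have hca : ∀ c : centralizer ({a, b} : Set E), bit ⁅(c : E), a⁆ = 0 := fun c =>
      bit_eq_zero.2 (commutatorElement_eq_one_iff_mul_comm.2
        (mem_centralizer_iff.1 c.2 a (Set.mem_insert _ _)).symm)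
    have hcb : ∀ c : centralizer ({a, b} : Set E), bit ⁅(c : E), b⁆ = 0 := fun c =>
      bit_eq_zero.2 (commutatorElement_eq_one_iff_mul_comm.2
        (mem_centralizer_iff.1 c.2 b (Set.mem_insert_of_mem _ rfl)).symm)
    have hac : ∀ c : centralizer ({a, b} : Set E), bit ⁅a, (c : E)⁆ = 0 := fun c =>
      (bit_comm_symm h _ _).trans (hca c)
    have hbc : ∀ c : centralizer ({a, b} : Set E), bit ⁅b, (c : E)⁆ = 0 := fun c =>
      (bit_comm_symm h _ _).trans (hcb c)
    refine ⟨e, Fin.cons a (fun i => (x i : E)), Fin.cons b (fun i => (y i : E)), p, q, ?_, ?_,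
      ?_, ?_, ?_, ?_, ?_, ?_, ?_, ?_, ?_, ?_⟩
    any_goals intro i; refine Fin.cases ?_ (fun i => ?_) i
    any_goals intro j; refine Fin.cases ?_ (fun j => ?_) j
    all_goals simp only [Fin.cons_zero, Fin.cons_succ, Fin.succ_inj, Fin.succ_ne_zero,
      (Fin.succ_ne_zero _).symm, if_true, if_false, hsq, hcm, hca, hcb, hac, hbc,
      bit_eq_zero.2 ha, bit_eq_zero.2 hb, bit_eq_one.2 hab, commutatorElement_self, bit_one,
      hx, hy, hp, hq, hpq, hxy, hxx, hyy, hxp, hxq, hyp, hyq]

end Cfsg.Agent.Lib.ExtraTwoCoord
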