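import Mathlib
import Cfsg.Prelude.Def_Transfer
import Cfsg.Agent.Lib.LargeES.Basic
import Cfsg.Agent.Lib.Transfer.Tate

/-!
# Element-wise toolkit for extraspecial 2-subgroups (written by helper89)
-/

set_option autoImplicit false

namespace Cfsg.Agent.Lib.ExtraTwo

open Cfsg
open scoped commutatorElement

variable {G : Type*} [Group G] {Q : Subgroup G}

/-- `z` is the involution generating the centre of the extraspecial 2-subgroup `Q`. -/
structure IsCentralGen (Q : Subgroup G) (z : G) : Prop where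
  extra : IsExtraspecial 2 ↥Q
  order : orderOf z = 2
  mem : z ∈ (Subgroup.center ↥Q).map Q.subtype
  all : ∀ x ∈ (Subgroup.center ↥Q).map Q.subtype, x = 1 ∨ x = z

theorem exists_gen (h : IsExtraspecial 2 ↥Q) : ∃ z, IsCentralGen Q z := by
  obtain ⟨z, h1, h2, h3⟩ := LargeES.exists_centre h
  exact ⟨z, h, h1, h2, h3⟩

theorem isCentralGen_of_eq_zpowers (h : IsExtraspecial 2 ↥Q) {z : G} (hz2 : orderOf z = 2)
    (hz : (Subgroup.center ↥Q).map Q.subtype = Subgroup.zpowers z) : IsCentralGen Q z := by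
  refine ⟨h, hz2, hz ▸ Subgroup.mem_zpowers z, fun x hx => ?_⟩
  rw [hz, Subgroup.mem_zpowers_iff] at hx
  obtain ⟨k, rfl⟩ := hx
  rcases Int.emod_two_eq_zero_or_one k with h | h <;>
    [left; right] <;> rw [← zpow_mod_orderOf, hz2] <;> simp [h]

/-- In a finite group, a normal subgroup containing all squares contains the Frattini subgroup. -/
theorem frattini_le_of_sq {R : Type*} [Group R] [Finite R] (N : Subgroup R)
    (hsq : ∀ x : R, x * x ∈ N) : frattini R ≤ N := by
  intro x hx
  by_contra hxN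
  obtain ⟨M, hM, hMmax⟩ := (Set.toFinite {M : Subgroup R | N ≤ M ∧ x ∉ M}).exists_maximal ⟨N, le_rfl, hxN⟩
  obtain ⟨hNM, hxM⟩ := hM
  have hconj : ∀ y m, m ∈ M → y * m * y⁻¹ ∈ M := by
    intro y m hm
    -- commutators are products of squares
    have : y * m * y⁻¹ = (y * m) * (y * m) * (m⁻¹ * (y * y)⁻¹) := by group
    rw [this]
    exact mul_mem (hNM (hsq _)) (mul_mem (inv_mem hm) (inv_mem (hNM (hsq y))))
  have htwo : ∀ y, y ∈ M ∨ y * x ∈ M := by
    intro y
    by_cases hy : y ∈ M
    · exact Or.inl hy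
    right
    by_contra hyx
    have hxi : x⁻¹ = (x * x)⁻¹ * x := by group
    -- M ∪ M y is a subgroup missing x
    let K : Subgroup R :=
      { carrier := {w | w ∈ M ∨ w * y ∈ M}
        one_mem' := Or.inl (one_mem M)
        mul_mem' := by
          rintro a b (ha | ha) (hb | hb)
          · exact Or.inl (mul_mem ha hb)
          · exact Or.inr (by rw [mul_assoc]; exact mul_mem ha hb)
          · refine Or.inr ?_
            have h1 : a * b * y = a * y * (y⁻¹ * b * y) := by group
            rw [h1]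
            exact mul_mem ha (by simpa using hconj y⁻¹ b hb)
          · left
            have h1 : a * b = a * y * ((y⁻¹ * (b * y) * y) * (y * y)⁻¹) := by group
            rw [h1]
            exact mul_mem ha (mul_mem (by simpa using hconj y⁻¹ _ hb) (inv_mem (hNM (hsq y))))
        inv_mem' := by
          rintro a (ha | ha)
          · exact Or.inl (inv_mem ha)
          · refine Or.inr ?_
            have h1 : a⁻¹ * y = y * (a * y)⁻¹ * y⁻¹ * (y * y) := by group
            rw [h1]
            exact mul_mem (hconj y _ (inv_mem ha)) (hNM (hsq y)) }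
    have hMK : M ≤ K := fun m hm => Or.inl hm
    have hyK : y ∈ K := Or.inr (hNM (hsq y))
    have hxK : x ∉ K := by
      rintro (h | h)
      · exact hxM h
      · refine hyx ?_
        have h1 : y * x = x⁻¹ * (x * y) * x⁻¹⁻¹ := by group
        rw [h1]
        exact hconj _ _ h
    exact hy (hMmax ⟨hNM.trans hMK, hxK⟩ hMK hyK)
  have hcoatom : IsCoatom M := by
    refine ⟨fun e => hxM (e ▸ Subgroup.mem_top x), fun K hK => eq_top_iff.2 fun y _ => ?_⟩
    have hxK : x ∈ K := by
      by_contra hxK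
      exact hK.not_ge (hMmax ⟨hNM.trans hK.le, hxK⟩ hK.le)
    rcases htwo y with h | h
    · exact hK.le h
    · simpa using mul_mem (hK.le h) (inv_mem hxK)
  exact hxM (frattini_le_coatom hcoatom hx)

namespace IsCentralGen

variable {z : G} (h : IsCentralGen Q z)

include h

theorem mem_Q : z ∈ Q := LargeES.centre_le h.mem

theorem ne_one : z ≠ 1 := fun e => by simpa [e] using h.order

theorem mul_self : z * z = 1 := by rw [← pow_two, ← h.order]; exact pow_orderOf_eq_one z

theorem inv_eq : z⁻¹ = z := inv_eq_of_mul_eq_one_right h.mul_self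

theorem commute {q : G} (hq : q ∈ Q) : Commute z q := LargeES.centre_commute h.mem hq

theorem map_center_eq : (Subgroup.center ↥Q).map Q.subtype = Subgroup.zpowers z := by
  refine le_antisymm (fun x hx => ?_) (Subgroup.zpowers_le.2 h.mem)
  rcases h.all x hx with rfl | rfl
  · exact one_mem _
  · exact Subgroup.mem_zpowers _

theorem eq_of_central {x : G} (hx : x ∈ Q) (hc : ∀ q ∈ Q, Commute x q) : x = 1 ∨ x = z :=
  h.all x ⟨⟨x, hx⟩, Subgroup.mem_center_iff.2 fun g => Subtype.ext (hc g g.2).eq.symm, rfl⟩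

theorem comm_cases {a b : G} (ha : a ∈ Q) (hb : b ∈ Q) :
    a * b * a⁻¹ * b⁻¹ = 1 ∨ a * b * a⁻¹ * b⁻¹ = z :=
  h.all _ ⟨⁅(⟨a, ha⟩ : ↥Q), ⟨b, hb⟩⁆,
    h.extra.1.2.2 ▸ Subgroup.commutator_mem_commutator (Subgroup.mem_top _) (Subgroup.mem_top _),
    by simp [commutatorElement_def]⟩

theorem comm_eq_of_not_commute {a b : G} (ha : a ∈ Q) (hb : b ∈ Q) (hne : ¬ Commute a b) :
    a * b * a⁻¹ * b⁻¹ = z := by
  refine (h.comm_cases ha hb).resolve_left fun e => hne ?_
  rw [mul_inv_eq_one, mul_inv_eq_iff_eq_mul] at e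
  exact e

theorem conj_cases {a b : G} (ha : a ∈ Q) (hb : b ∈ Q) : a * b * a⁻¹ = b ∨ a * b * a⁻¹ = z * b := by
  rcases h.comm_cases ha hb with e | e
  · left; rwa [mul_inv_eq_one] at e
  · right; exact eq_mul_of_mul_inv_eq e

theorem sq_cases [Finite G] {a : G} (ha : a ∈ Q) : a * a = 1 ∨ a * a = z := by
  haveI : Fact (Nat.Prime 2) := ⟨Nat.prime_two⟩
  refine h.all _ ⟨⟨a * a, mul_mem ha ha⟩, ?_, rfl⟩
  rw [← h.extra.1.2.1]
  show (⟨a, ha⟩ * ⟨a, ha⟩ : ↥Q) ∈ frattini ↥Q
  simp only [frattini, Order.radical, Subgroup.mem_iInf]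
  intro M hM
  have hM' : IsCoatom M := hM
  have hQp : IsPGroup 2 ↥Q := h.extra.1.1
  haveI := hQp.isNilpotent
  haveI : M.Normal :=
    Subgroup.NormalizerCondition.normal_of_coatom M Group.normalizerCondition_of_isNilpotent hM'
  have hidx : M.index = 2 := by
    obtain ⟨k, hk⟩ := IsPGroup.iff_card.1 (hQp.to_quotient M)
    haveI : IsSimpleOrder (Subgroup (↥Q ⧸ M)) := by
      haveI : Nontrivial (↥Q ⧸ M) := QuotientGroup.nontrivial_iff.mpr hM'.1
      refine ⟨fun K => ?_⟩
      rcases eq_or_lt_of_le (QuotientGroup.le_comap_mk' M K) with e | e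
      · left
        refine Subgroup.comap_injective (QuotientGroup.mk'_surjective M) ?_
        rw [← e, MonoidHom.comap_bot, QuotientGroup.ker_mk']
      · right
        refine Subgroup.comap_injective (QuotientGroup.mk'_surjective M) ?_
        rw [hM'.2 _ e, Subgroup.comap_top]
    haveI : Nontrivial (↥Q ⧸ M) := QuotientGroup.nontrivial_iff.mpr hM'.1
    obtain ⟨q, hq⟩ := exists_prime_orderOf_dvd_card' (G := ↥Q ⧸ M) 2 (by
      rcases Nat.eq_zero_or_pos k with rfl | hk0
      · have := Finite.one_lt_card (α := ↥Q ⧸ M); simp at hk; omega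
      · rw [hk]; exact dvd_pow_self 2 hk0.ne')
    rcases IsSimpleOrder.eq_bot_or_eq_top (Subgroup.zpowers q) with e | e
    · rw [Subgroup.zpowers_eq_bot] at e; simp [e] at hq
    · rw [Subgroup.index, ← hq, ← Nat.card_zpowers, e, Subgroup.card_top]
  exact Subgroup.mul_self_mem_of_index_two hidx _

end IsCentralGen

/-- A non-abelian subgroup of `Q` whose centre lies in the centre of `Q` is extraspecial, with the same centre. -/
theorem isExtraspecial_of_le [Finite G] {z : G} (h : IsCentralGen Q z) {R : Subgroup G} (hR : R ≤ Q)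
    (hcen : ∀ x ∈ R, (∀ y ∈ R, Commute x y) → x = 1 ∨ x = z) (hna : ∃ a ∈ R, ∃ b ∈ R, ¬ Commute a b) :
    IsExtraspecial 2 ↥R ∧ z ∈ R ∧ (Subgroup.center ↥R).map R.subtype = Subgroup.zpowers z := by
  haveI : Fact (Nat.Prime 2) := ⟨Nat.prime_two⟩
  obtain ⟨a, ha, b, hb, hab⟩ := hna
  have hzR : z ∈ R := by
    rw [← h.comm_eq_of_not_commute (hR ha) (hR hb) hab]
    exact mul_mem (mul_mem (mul_mem ha hb) (inv_mem ha)) (inv_mem hb)
  have hmap : (Subgroup.center ↥R).map R.subtype = Subgroup.zpowers z := by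
    refine le_antisymm ?_ (Subgroup.zpowers_le.2 ?_)
    · rintro _ ⟨x, hx, rfl⟩
      rcases hcen x x.2 (fun y hy => (congrArg Subtype.val (Subgroup.mem_center_iff.1 hx ⟨y, hy⟩)).symm)
        with e | e <;> rw [Subgroup.subtype_apply, e]
      · exact one_mem _
      · exact Subgroup.mem_zpowers z
    · exact ⟨⟨z, hzR⟩, Subgroup.mem_center_iff.2 fun g => Subtype.ext (h.commute (hR g.2)).eq.symm, rfl⟩
  have hcard : Nat.card (Subgroup.center ↥R) = 2 := by
    rw [← Subgroup.card_map_of_injective R.subtype_injective, hmap, Nat.card_zpowers, h.order]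
  have hmemc : ∀ x : ↥R, ((x : G) = 1 ∨ (x : G) = z) → x ∈ Subgroup.center ↥R := by
    intro x hx
    rcases hx with e | e
    · rw [show x = 1 from Subtype.ext e]; exact one_mem _
    · exact Subgroup.mem_center_iff.2 fun g => Subtype.ext (by simpa [e] using (h.commute (hR g.2)).eq.symm)
  have hRp : IsPGroup 2 ↥R := IsPGroup.of_injective h.extra.1.1 (Subgroup.inclusion hR) (Subgroup.inclusion_injective hR)
  have hcomm : commutator ↥R = Subgroup.center ↥R := by
    refine le_antisymm ?_ ?_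
    · rw [commutator_def, Subgroup.commutator_le]
      intro x _ y _
      exact hmemc _ (by simpa [commutatorElement_def] using h.comm_cases (hR x.2) (hR y.2))
    · intro x hx
      have hx' : (x : G) ∈ Subgroup.zpowers z := hmap ▸ ⟨x, hx, rfl⟩
      have hzc : (⟨z, hzR⟩ : ↥R) ∈ commutator ↥R := by
        have e : (⟨z, hzR⟩ : ↥R) = ⁅(⟨a, ha⟩ : ↥R), ⟨b, hb⟩⁆ :=
          Subtype.ext (by simpa [commutatorElement_def] using (h.comm_eq_of_not_commute (hR ha) (hR hb) hab).symm)
        rw [e]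
        exact Subgroup.commutator_mem_commutator (Subgroup.mem_top _) (Subgroup.mem_top _)
      rw [Subgroup.mem_zpowers_iff] at hx'
      obtain ⟨k, hk⟩ := hx'
      rw [show x = (⟨z, hzR⟩ : ↥R) ^ k from Subtype.ext (by simp [hk])]
      exact zpow_mem hzc k
  refine ⟨⟨⟨hRp, ?_, hcomm⟩, hcard⟩, hzR, hmap⟩
  refine le_antisymm ?_ (hcomm ▸ Lib.Transfer.commutator_le_frattini_of_isPGroup hRp)
  -- the quotient by the centre is elementary abelian
  have hsq : ∀ x : ↥R, x * x ∈ Subgroup.center ↥R := fun x => hmemc _ (h.sq_cases (hR x.2))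
  exact frattini_le_of_sq (Subgroup.center ↥R) hsq

end Cfsg.Agent.Lib.ExtraTwo
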