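import Mathlib
import Cfsg.Prelude.Def_MonsterType
import Cfsg.Agent.Lib.ExtraTwo.Basic
import Cfsg.Agent.Lib.LargeExtra.Basic
import Cfsg.Agent.Lib.LargeExtra.Setting

/-!
# Two orthogonal conjugates `z`, `s = g z g⁻¹` for a large extraspecial subgroup (written by helper89)

`X = ⟨Q, Q^g⟩` acts on `V = ⟨z, s⟩` as `S₃` with kernel `R = C_{Q^g}(z) C_Q(s)`.
-/

set_option autoImplicit false

namespace Cfsg.Agent.Lib.ExtraTwo.Pair

open Cfsg
open Cfsg.Agent.Lib.LargeExtra

variable {G : Type*} [Group G]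

theorem good_of_large [Finite G] {Q : Subgroup G} {z : G} (hQ : IsLargeExtraspecial Q)
    (h : IsCentralGen Q z) : Good Q z where
  x_mem := h.mem_Q
  x_sq := h.mul_self
  x_ne := h.ne_one
  le_cent := fun _ hq => (h.commute hq).eq.symm
  comm := fun a ha b hb => (h.conj_cases ha hb).imp id (fun e => e.trans (h.commute hb).eq)
  centre := fun _ ha hc => h.eq_of_central ha hc
  nonab := by
    by_contra hne
    push Not at hne
    have h1 : commutator ↥Q = ⊥ := by
      rw [commutator_def, Subgroup.commutator_eq_bot_iff_le_centralizer]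
      exact fun a _ => Subgroup.mem_centralizer_iff.2 fun b _ => Subtype.ext (hne b b.2 a a.2)
    have hcard := hQ.1.2
    rw [← hQ.1.1.2.2, h1, Subgroup.card_bot] at hcard
    exact absurd hcard (by norm_num)
  norm := fun g hg q hq => (Subgroup.mem_normalizer_iff.1 (hQ.2.2.1 (by
    rw [h.map_center_eq, Subgroup.mem_centralizer_iff]
    intro x hx
    obtain ⟨i, rfl⟩ := Subgroup.mem_zpowers_iff.1 hx
    exact (Commute.zpow_left (hg.symm : Commute z g) i).eq)) q).1 hq
  cent := fun g hg => by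
    have hm : g ∈ Subgroup.centralizer (Q : Set G) :=
      Subgroup.mem_centralizer_iff.2 fun q hq => (hg q hq).symm
    rw [hQ.2.1] at hm
    exact LargeES.centre_le hm

/-- The setting: `Q` is `Good` at `z`, `Qs` at `s`, and they are carried to each other. -/
structure Setting (Q Qs : Subgroup G) (z s : G) : Prop where
  hQ : Good Q z
  hS : Good Qs s
  hs : s ∈ Q
  hz : z ∈ Qs
  ne : s ≠ z
  transport : ∀ τ : G, τ * z * τ⁻¹ = s → ∀ q, q ∈ Qs ↔ τ⁻¹ * q * τ ∈ Q

theorem setting_of_good [Finite G] {Q : Subgroup G} {z : G} (hG : Good Q z) {g : G}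
    (hgH : g ∉ Subgroup.centralizer ({z} : Set G)) (hgQ : g * z * g⁻¹ ∈ Q) :
    Setting Q (Q.map (MulAut.conj g).toMonoidHom) z (g * z * g⁻¹) := by
  have hmem : ∀ q, q ∈ Q.map (MulAut.conj g).toMonoidHom ↔ g⁻¹ * q * g ∈ Q := fun q => by
    constructor
    · rintro ⟨u, hu, rfl⟩; simpa [mul_assoc] using hu
    · intro hu; exact ⟨_, hu, by simp [mul_assoc]⟩
  have hcv : ∀ a b : G, g⁻¹ * (a * b) * g = (g⁻¹ * a * g) * (g⁻¹ * b * g) := fun a b => by group
  have hS : Good (Q.map (MulAut.conj g).toMonoidHom) (g * z * g⁻¹) := by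
    constructor
    · exact (hmem _).2 (by simpa [mul_assoc] using hG.x_mem)
    · rw [show g * z * g⁻¹ * (g * z * g⁻¹) = g * (z * z) * g⁻¹ by group, hG.x_sq]; group
    · simpa using hG.x_ne
    · rintro _ ⟨a, ha, rfl⟩
      exact (Commute.map (hG.le_cent a ha : Commute a z) (MulAut.conj g).toMonoidHom).eq
    · rintro _ ⟨a, ha, rfl⟩ _ ⟨b, hb, rfl⟩
      rcases hG.comm a ha b hb with e | e
      · left; rw [← map_mul, ← map_inv, ← map_mul, e]
      · right
        rw [← map_mul, ← map_inv, ← map_mul, e, map_mul]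
        rfl
    · rintro _ ⟨a, ha, rfl⟩ hc
      rcases hG.centre a ha (fun b hb => by
        have := hc _ ⟨b, hb, rfl⟩
        rw [← map_mul, ← map_mul] at this
        exact (MulAut.conj g).injective this) with rfl | rfl
      · left; simp
      · right; rfl
    · obtain ⟨a, ha, b, hb, hne⟩ := hG.nonab
      exact ⟨_, ⟨a, ha, rfl⟩, _, ⟨b, hb, rfl⟩, fun e => hne (by
        rw [← map_mul, ← map_mul] at e
        exact (MulAut.conj g).injective e)⟩
    · intro c hc q hq
      rw [hmem] at hq ⊢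
      have h1 : Commute (g⁻¹ * c * g) z := by
        have := Commute.map (hc : Commute c (g * z * g⁻¹)) (MulAut.conj g⁻¹).toMonoidHom
        simpa [mul_assoc] using this
      have := hG.norm _ h1.eq _ hq
      simpa [mul_assoc] using this
    · intro c hc
      rw [hmem]
      refine hG.cent _ fun q hq => ?_
      have hh : Commute c ((MulAut.conj g).toMonoidHom q) := hc _ ⟨q, hq, rfl⟩
      have := hh.map (MulAut.conj g⁻¹).toMonoidHom
      simpa [mul_assoc, Commute, SemiconjBy] using this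
  have hne : g * z * g⁻¹ ≠ z := fun e => hgH (Subgroup.mem_centralizer_singleton_iff.2 (mul_inv_eq_iff_eq_mul.1 e))
  have htr : ∀ τ : G, τ * z * τ⁻¹ = g * z * g⁻¹ → ∀ q,
      q ∈ Q.map (MulAut.conj g).toMonoidHom ↔ τ⁻¹ * q * τ ∈ Q := by
    intro τ hτ q
    have hc : (τ⁻¹ * g) * z = z * (τ⁻¹ * g) := by
      calc (τ⁻¹ * g) * z = τ⁻¹ * (g * z * g⁻¹) * g := by group
        _ = τ⁻¹ * (τ * z * τ⁻¹) * g := by rw [hτ]
        _ = z * (τ⁻¹ * g) := by group
    have hc' : (τ⁻¹ * g)⁻¹ * z = z * (τ⁻¹ * g)⁻¹ := (Commute.inv_left (hc : Commute (τ⁻¹ * g) z)).eq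
    rw [hmem]
    constructor
    · intro hh
      have := hG.norm _ hc _ hh
      simpa [mul_assoc] using this
    · intro hh
      have := hG.norm _ hc' _ hh
      simpa [mul_assoc] using this
  exact ⟨hG, hS, hgQ, LargeExtra.symm hS hG htr hgQ, hne, htr⟩

theorem setting_of_large [Finite G] {Q : Subgroup G} {z : G} (hQ : IsLargeExtraspecial Q)
    (h : IsCentralGen Q z) {g : G} (hgH : g ∉ Subgroup.centralizer ({z} : Set G))
    (hgQ : g * z * g⁻¹ ∈ Q) :
    Setting Q (Q.map (MulAut.conj g).toMonoidHom) z (g * z * g⁻¹) :=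
  setting_of_good (good_of_large hQ h) hgH hgQ

namespace Setting

variable {Q Qs : Subgroup G} {z s : G} (S : Setting Q Qs z s)

include S

theorem zs : Commute z s := (S.hQ.le_cent s S.hs : Commute s z).symm

theorem s_notMem : s ∉ Subgroup.zpowers z := fun h =>
  (eq_or_of_mem_zpowers S.hQ.x_sq h).elim S.hS.x_ne S.ne

theorem z_notMem : z ∉ Subgroup.zpowers s := fun h =>
  (eq_or_of_mem_zpowers S.hS.x_sq h).elim S.hQ.x_ne (fun e => S.ne e.symm)

/-- some element of `Q` moves `s`, and dually. -/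
theorem exists_move [Finite G] : (∃ a ∈ Q, a * s * a⁻¹ = s * z) ∧ ∃ b ∈ Qs, b * z * b⁻¹ = z * s :=
  ⟨S.hQ.exists_move S.hs S.hS.x_ne S.ne, S.hS.exists_move S.hz S.hQ.x_ne S.ne.symm⟩

theorem inf_comm_eq {a b : G} (ha : a ∈ Q ⊓ Qs) (hb : b ∈ Q ⊓ Qs) : a * b = b * a := by
  rcases S.hQ.comm a ha.1 b hb.1 with e | e
  · exact conj_eq_iff_comm.1 e
  rcases S.hS.comm a ha.2 b hb.2 with e' | e'
  · exact conj_eq_iff_comm.1 e'
  exact absurd (mul_left_cancel (e.symm.trans e')) (Ne.symm S.ne)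

theorem inf_sq {a : G} (ha : a ∈ Q ⊓ Qs) : a * a = 1 := by
  rcases S.hQ.sq_cases ha.1 with e | e
  · exact e
  rcases S.hS.sq_cases ha.2 with e' | e'
  · exact e'
  exact absurd (e.symm.trans e') (Ne.symm S.ne)

theorem mem_V_mem_inf {v : G} (hv : v ∈ Subgroup.closure ({z, s} : Set G)) : v ∈ Q ⊓ Qs := by
  refine (Subgroup.closure_le _).2 ?_ hv
  rintro x (rfl | rfl)
  · exact ⟨S.hQ.x_mem, S.hz⟩
  · exact ⟨S.hs, S.hS.x_mem⟩

theorem V_cases {v : G} (hv : v ∈ Subgroup.closure ({z, s} : Set G)) :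
    v = 1 ∨ v = z ∨ v = s ∨ v = z * s := by
  have key : ∃ i j : ℤ, z ^ i * s ^ j = v := by
    induction hv using Subgroup.closure_induction with
    | mem x hx =>
      rcases hx with h | h
      · exact ⟨1, 0, by simp [h]⟩
      · exact ⟨0, 1, by rw [Set.mem_singleton_iff.1 h]; simp⟩
    | one => exact ⟨0, 0, by simp⟩
    | mul x y _ _ hx hy =>
      obtain ⟨i, j, rfl⟩ := hx
      obtain ⟨k, l, rfl⟩ := hy
      refine ⟨i + k, j + l, ?_⟩
      rw [zpow_add, zpow_add, mul_assoc, ← mul_assoc (z ^ k), (S.zs.zpow_zpow k j).eq]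
      simp [mul_assoc]
    | inv x _ hx =>
      obtain ⟨i, j, rfl⟩ := hx
      exact ⟨-i, -j, by rw [mul_inv_rev, zpow_neg, zpow_neg, (S.zs.zpow_zpow i j).inv_inv.eq]⟩
  obtain ⟨i, j, rfl⟩ := key
  rcases eq_or_of_mem_zpowers S.hQ.x_sq (Subgroup.zpow_mem_zpowers z i) with e | e <;>
    rcases eq_or_of_mem_zpowers S.hS.x_sq (Subgroup.zpow_mem_zpowers s j) with e' | e' <;>
    simp [e, e']

/-- `R` as a subgroup. -/
theorem mem_R_iff {x : G} :
    x ∈ (Qs ⊓ Subgroup.centralizer ({z} : Set G)) ⊔ (Q ⊓ Subgroup.centralizer ({s} : Set G)) ↔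
      ∃ p ∈ Qs, ∃ q ∈ Q, p * z = z * p ∧ q * s = s * q ∧ p * q = x := by
  have hnorm : Q ⊓ Subgroup.centralizer ({s} : Set G) ≤
      Subgroup.normalizer ((Qs ⊓ Subgroup.centralizer ({z} : Set G) : Subgroup G) : Set G) := by
    have key : ∀ q ∈ Q ⊓ Subgroup.centralizer ({s} : Set G), ∀ p ∈ Qs ⊓ Subgroup.centralizer ({z} : Set G),
        q * p * q⁻¹ ∈ Qs ⊓ Subgroup.centralizer ({z} : Set G) := by
      rintro q ⟨hq, hqs⟩ p ⟨hp, hpz⟩
      refine ⟨S.hS.norm q (Subgroup.mem_centralizer_singleton_iff.1 hqs) p hp, ?_⟩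
      have hqz : q ∈ Subgroup.centralizer ({z} : Set G) :=
        Subgroup.mem_centralizer_singleton_iff.2 (S.hQ.le_cent q hq)
      exact Subgroup.mul_mem _ (Subgroup.mul_mem _ hqz hpz) (Subgroup.inv_mem _ hqz)
    intro q hq
    rw [Subgroup.mem_normalizer_iff]
    refine fun p => ⟨key q hq p, fun hp => ?_⟩
    have := key q⁻¹ (inv_mem hq) _ hp
    simpa [mul_assoc] using this
  rw [← SetLike.mem_coe, Subgroup.coe_mul_of_right_le_normalizer_left _ _ hnorm, Set.mem_mul]
  constructor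
  · rintro ⟨p, ⟨hp, hpz⟩, q, ⟨hq, hqs⟩, rfl⟩
    exact ⟨p, hp, q, hq, Subgroup.mem_centralizer_singleton_iff.1 hpz,
      Subgroup.mem_centralizer_singleton_iff.1 hqs, rfl⟩
  · rintro ⟨p, hp, q, hq, hpz, hqs, rfl⟩
    exact ⟨p, ⟨hp, Subgroup.mem_centralizer_singleton_iff.2 hpz⟩, q,
      ⟨hq, Subgroup.mem_centralizer_singleton_iff.2 hqs⟩, rfl⟩

theorem R_commute {x : G}
    (hx : x ∈ (Qs ⊓ Subgroup.centralizer ({z} : Set G)) ⊔ (Q ⊓ Subgroup.centralizer ({s} : Set G))) :
    Commute x z ∧ Commute x s := by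
  obtain ⟨p, hp, q, hq, hpz, hqs, rfl⟩ := S.mem_R_iff.1 hx
  exact ⟨Commute.mul_left hpz (S.hQ.le_cent q hq), Commute.mul_left (S.hS.le_cent p hp) hqs⟩

end Setting


namespace Setting

variable [Finite G] {Q Qs : Subgroup G} {z s : G} (S : Setting Q Qs z s)

include S

omit [Finite G] in
theorem swap : Setting Qs Q s z where
  hQ := S.hS
  hS := S.hQ
  hs := S.hz
  hz := S.hs
  ne := S.ne.symm
  transport := fun τ hτ q => by
    have h := S.transport τ⁻¹ (by rw [← hτ]; group) (τ⁻¹ * q * τ)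
    rw [h]; simp [mul_assoc]

omit [Finite G] in
/-- `⁅Q, c⁆` for `c` centralising `V` lies in `C_Q(s)`. -/
theorem comm_mem {q c : G} (hq : q ∈ Q) (hcz : Commute c z) (hcs : Commute c s) :
    q * c * q⁻¹ * c⁻¹ ∈ Q ∧ Commute (q * c * q⁻¹ * c⁻¹) s := by
  constructor
  · rw [mul_assoc, mul_assoc, ← mul_assoc c]
    exact mul_mem hq (S.hQ.norm c hcz _ (inv_mem hq))
  · refine Commute.mul_left ?_ hcs.inv_left
    have hqz : Commute q z := S.hQ.le_cent q hq
    rcases S.hQ.comm q hq s S.hs with e | e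
    · have h := hcs.map (MulAut.conj q).toMonoidHom
      simp only [MulEquiv.coe_toMonoidHom, MulAut.conj_apply, e] at h
      exact h
    · have h := (hcs.mul_right hcz).map (MulAut.conj q).toMonoidHom
      simp only [MulEquiv.coe_toMonoidHom, MulAut.conj_apply] at h
      have e2 : q * (s * z) * q⁻¹ = s := by
        calc q * (s * z) * q⁻¹ = (q * s * q⁻¹) * (q * z * q⁻¹) := by group
          _ = s * (z * z) := by rw [e, hqz.eq]; group
          _ = s := by rw [S.hQ.x_sq, mul_one]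
      rwa [e2] at h

omit [Finite G] in
theorem commutator_mem_R {q c : G} (hq : q ∈ Q ∨ q ∈ Qs) (hcz : Commute c z) (hcs : Commute c s) :
    q * c * q⁻¹ * c⁻¹ ∈
      (Qs ⊓ Subgroup.centralizer ({z} : Set G)) ⊔ (Q ⊓ Subgroup.centralizer ({s} : Set G)) := by
  rcases hq with hq | hq
  · exact Subgroup.mem_sup_right ⟨(S.comm_mem hq hcz hcs).1,
      Subgroup.mem_centralizer_singleton_iff.2 (S.comm_mem hq hcz hcs).2.eq⟩
  · exact Subgroup.mem_sup_left ⟨(S.swap.comm_mem hq hcs hcz).1,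
      Subgroup.mem_centralizer_singleton_iff.2 (S.swap.comm_mem hq hcs hcz).2.eq⟩

omit [Finite G] in
theorem le_normalizer_R :
    Q ⊔ Qs ≤ Subgroup.normalizer (((Qs ⊓ Subgroup.centralizer ({z} : Set G)) ⊔
      (Q ⊓ Subgroup.centralizer ({s} : Set G)) : Subgroup G) : Set G) := by
  set R := (Qs ⊓ Subgroup.centralizer ({z} : Set G)) ⊔ (Q ⊓ Subgroup.centralizer ({s} : Set G)) with hR
  have key : ∀ q, (q ∈ Q ∨ q ∈ Qs) → ∀ r ∈ R, q * r * q⁻¹ ∈ R := by
    intro q hq r hr
    obtain ⟨h1, h2⟩ := S.R_commute hr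
    have := mul_mem (S.commutator_mem_R hq h1 h2) hr
    simpa [mul_assoc] using this
  refine sup_le ?_ ?_ <;>
  · intro q hq
    rw [Subgroup.mem_normalizer_iff]
    refine fun r => ⟨key q (by first | exact Or.inl hq | exact Or.inr hq) r, fun h => ?_⟩
    have := key q⁻¹ (by first | exact Or.inl (inv_mem hq) | exact Or.inr (inv_mem hq)) _ h
    simpa [mul_assoc] using this

omit [Finite G] in
theorem R_le_X : (Qs ⊓ Subgroup.centralizer ({z} : Set G)) ⊔ (Q ⊓ Subgroup.centralizer ({s} : Set G))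
    ≤ Q ⊔ Qs :=
  sup_le (inf_le_left.trans le_sup_right) (inf_le_left.trans le_sup_left)

omit [Finite G] in
theorem mem_centralizer_V {x : G} :
    x ∈ Subgroup.centralizer ((Subgroup.closure ({z, s} : Set G) : Subgroup G) : Set G) ↔
      Commute x z ∧ Commute x s := by
  rw [Subgroup.centralizer_closure, Subgroup.mem_centralizer_iff]
  constructor
  · exact fun h => ⟨(h z (by simp)).symm, (h s (by simp)).symm⟩
  · rintro ⟨h1, h2⟩ y (rfl | rfl)
    exacts [h1.eq.symm, h2.eq.symm]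

theorem isPGroup_R (hp : IsPGroup 2 ↥Q) (hp' : IsPGroup 2 ↥Qs) :
    IsPGroup 2 ↥((Qs ⊓ Subgroup.centralizer ({z} : Set G)) ⊔ (Q ⊓ Subgroup.centralizer ({s} : Set G))) := by
  refine (hp'.to_le inf_le_left).to_sup_of_normal_left' (hp.to_le inf_le_left) ?_
  intro q hq
  obtain ⟨hq1, hq2⟩ := Subgroup.mem_inf.1 hq
  rw [Subgroup.mem_normalizer_iff]
  have hqz : Commute q z := S.hQ.le_cent q hq1
  have hqs : Commute q s := Subgroup.mem_centralizer_singleton_iff.1 hq2
  have key : ∀ q, Commute q z → Commute q s → ∀ p ∈ Qs ⊓ Subgroup.centralizer ({z} : Set G),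
      q * p * q⁻¹ ∈ Qs ⊓ Subgroup.centralizer ({z} : Set G) := by
    intro q hqz hqs p hp
    obtain ⟨hp1, hp2⟩ := Subgroup.mem_inf.1 hp
    refine ⟨S.hS.norm q hqs p hp1, Subgroup.mem_centralizer_singleton_iff.2 ?_⟩
    exact ((hqz.mul_left (Subgroup.mem_centralizer_singleton_iff.1 hp2)).mul_left hqz.inv_left).eq
  refine fun p => ⟨key q hqz hqs p, fun h => ?_⟩
  have := key q⁻¹ hqz.inv_left hqs.inv_left _ h
  simpa [mul_assoc] using this

omit [Finite G] in
/-- conjugation on the three involutions of `V`. -/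
theorem moves {a b : G} (ha : a ∈ Q) (has : a * s * a⁻¹ = s * z) (hb : b ∈ Qs) (hbz : b * z * b⁻¹ = z * s) :
    a * z * a⁻¹ = z ∧ a * (z * s) * a⁻¹ = s ∧ b * s * b⁻¹ = s ∧ b * (z * s) * b⁻¹ = z := by
  have e1 : a * z * a⁻¹ = z := conj_eq_iff_comm.2 (S.hQ.le_cent a ha)
  have e2 : b * s * b⁻¹ = s := conj_eq_iff_comm.2 (S.hS.le_cent b hb)
  refine ⟨e1, ?_, e2, ?_⟩
  · rw [show a * (z * s) * a⁻¹ = (a * z * a⁻¹) * (a * s * a⁻¹) by group, e1, has, S.zs.eq.symm,
      ← mul_assoc, S.hQ.x_sq, one_mul]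
  · rw [show b * (z * s) * b⁻¹ = (b * z * b⁻¹) * (b * s * b⁻¹) by group, hbz, e2, mul_assoc, S.hS.x_sq,
      mul_one]

/-- The action of `X` on the three involutions of `V`: an isomorphism `X / R ≅ S₃`. -/
theorem exists_hom :
    ∃ f : ↥(Q ⊔ Qs) →* Equiv.Perm (Fin 3), Function.Surjective f ∧
      (∀ x : ↥(Q ⊔ Qs), f x = 1 ↔ Commute (x : G) z ∧ Commute (x : G) s) ∧
      f.ker = ((Qs ⊓ Subgroup.centralizer ({z} : Set G)) ⊔
        (Q ⊓ Subgroup.centralizer ({s} : Set G))).subgroupOf (Q ⊔ Qs) := by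
  classical
  obtain ⟨⟨a, ha, has⟩, b, hb, hbz⟩ := S.exists_move
  obtain ⟨haz, hazs, hbs, hbzs⟩ := S.moves ha has hb hbz
  let v : Fin 3 → G := ![z, s, z * s]
  have hvinj : Function.Injective v := by
    intro i j hij
    fin_cases i <;> fin_cases j <;> first | rfl | skip
    all_goals exfalso
    all_goals simp [v] at hij
    all_goals first
      | exact S.ne hij.symm
      | exact S.ne hij
      | exact S.hS.x_ne hij
      | exact S.hQ.x_ne hij
  -- conjugation by X preserves the three involutions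
  have hmaps' : ∀ x ∈ Q ⊔ Qs, ∀ i, ∃ j, v j = x * v i * x⁻¹ := by
    intro x hx
    rw [Subgroup.sup_eq_closure] at hx
    induction hx using Subgroup.closure_induction'' with
    | one => exact fun i => ⟨i, by simp⟩
    | mul x y _ _ hx hy =>
      intro i
      obtain ⟨j, hj⟩ := hy i
      obtain ⟨k, hk⟩ := hx j
      exact ⟨k, by rw [hk, hj]; group⟩
    | mem x hx =>
      rcases hx with hx | hx
      · have hxz : x * z * x⁻¹ = z := conj_eq_iff_comm.2 (S.hQ.le_cent x hx)
        intro i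
        rcases S.hQ.comm x hx s S.hs with e | e
        · exact ⟨i, by fin_cases i <;> simp only [v, Matrix.cons_val_zero, Matrix.cons_val_one, Matrix.cons_val_two, Matrix.tail_cons, Matrix.head_cons, Fin.zero_eta, Fin.mk_one, Fin.reduceFinMk, Matrix.cons_val] <;>
            first | exact hxz.symm | exact e.symm | (rw [show x * (z * s) * x⁻¹ = (x * z * x⁻¹) * (x * s * x⁻¹) by group, hxz, e])⟩
        · refine ⟨![0, 2, 1] i, ?_⟩
          have e2 : x * (z * s) * x⁻¹ = s := by
            rw [show x * (z * s) * x⁻¹ = (x * z * x⁻¹) * (x * s * x⁻¹) by group, hxz, e, S.zs.eq.symm,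
              ← mul_assoc, S.hQ.x_sq, one_mul]
          fin_cases i <;> simp [v, hxz, e, e2, ← S.zs.eq]
      · have hxs : x * s * x⁻¹ = s := conj_eq_iff_comm.2 (S.hS.le_cent x hx)
        intro i
        rcases S.hS.comm x hx z S.hz with e | e
        · exact ⟨i, by fin_cases i <;> simp only [v, Matrix.cons_val_zero, Matrix.cons_val_one, Matrix.cons_val_two, Matrix.tail_cons, Matrix.head_cons, Fin.zero_eta, Fin.mk_one, Fin.reduceFinMk, Matrix.cons_val] <;>
            first | exact hxs.symm | exact e.symm | (rw [show x * (z * s) * x⁻¹ = (x * z * x⁻¹) * (x * s * x⁻¹) by group, hxs, e])⟩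
        · refine ⟨![2, 1, 0] i, ?_⟩
          have e2 : x * (z * s) * x⁻¹ = z := by
            rw [show x * (z * s) * x⁻¹ = (x * z * x⁻¹) * (x * s * x⁻¹) by group, hxs, e, mul_assoc,
              S.hS.x_sq, mul_one]
          fin_cases i <;> simp [v, hxs, e, e2]
    | inv_mem x hx =>
      rcases hx with hx | hx
      · have hxz : x⁻¹ * z * x = z := by
          simpa using conj_eq_iff_comm.2 (S.hQ.le_cent x⁻¹ (inv_mem hx))
        intro i
        rcases S.hQ.comm x⁻¹ (inv_mem hx) s S.hs with e | e <;> simp only [inv_inv] at e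
        · refine ⟨i, ?_⟩
          have e2 : x⁻¹ * (z * s) * x = z * s := by
            rw [show x⁻¹ * (z * s) * x = (x⁻¹ * z * x) * (x⁻¹ * s * x) by group, hxz, e]
          fin_cases i <;> simp [v, hxz, e, e2]
        · refine ⟨![0, 2, 1] i, ?_⟩
          have e2 : x⁻¹ * (z * s) * x = s := by
            rw [show x⁻¹ * (z * s) * x = (x⁻¹ * z * x) * (x⁻¹ * s * x) by group, hxz, e, S.zs.eq.symm,
              ← mul_assoc, S.hQ.x_sq, one_mul]
          fin_cases i <;> simp [v, hxz, e, e2, ← S.zs.eq]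
      · have hxs : x⁻¹ * s * x = s := by
          simpa using conj_eq_iff_comm.2 (S.hS.le_cent x⁻¹ (inv_mem hx))
        intro i
        rcases S.hS.comm x⁻¹ (inv_mem hx) z S.hz with e | e <;> simp only [inv_inv] at e
        · refine ⟨i, ?_⟩
          have e2 : x⁻¹ * (z * s) * x = z * s := by
            rw [show x⁻¹ * (z * s) * x = (x⁻¹ * z * x) * (x⁻¹ * s * x) by group, hxs, e]
          fin_cases i <;> simp [v, hxs, e, e2]
        · refine ⟨![2, 1, 0] i, ?_⟩
          have e2 : x⁻¹ * (z * s) * x = z := by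
            rw [show x⁻¹ * (z * s) * x = (x⁻¹ * z * x) * (x⁻¹ * s * x) by group, hxs, e, mul_assoc,
              S.hS.x_sq, mul_one]
          fin_cases i <;> simp [v, hxs, e, e2]
  have hmaps : ∀ x : ↥(Q ⊔ Qs), ∀ i, ∃ j, v j = (x : G) * v i * (x : G)⁻¹ := fun x => hmaps' x x.2
  let p : ↥(Q ⊔ Qs) → Fin 3 → Fin 3 := fun x i => (hmaps x i).choose
  have hp : ∀ (x : ↥(Q ⊔ Qs)) i, v (p x i) = (x : G) * v i * (x : G)⁻¹ := fun x i => (hmaps x i).choose_spec
  have hpmul : ∀ x y i, p (x * y) i = p x (p y i) := fun x y i =>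
    hvinj (by rw [hp, hp, hp, Subgroup.coe_mul]; group)
  have hpone : ∀ i, p 1 i = i := fun i => hvinj (by rw [hp]; simp)
  let e : ↥(Q ⊔ Qs) → Equiv.Perm (Fin 3) := fun x =>
    ⟨p x, p x⁻¹, fun i => by rw [← hpmul, inv_mul_cancel, hpone],
      fun i => by rw [← hpmul, mul_inv_cancel, hpone]⟩
  let f : ↥(Q ⊔ Qs) →* Equiv.Perm (Fin 3) :=
    { toFun := e
      map_one' := Equiv.ext hpone
      map_mul' := fun x y => Equiv.ext (hpmul x y) }
  have hf : ∀ (x : ↥(Q ⊔ Qs)) i j, (x : G) * v i * (x : G)⁻¹ = v j → f x i = j :=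
    fun x i j h => hvinj ((hp x i).trans h)
  have hker : ∀ x : ↥(Q ⊔ Qs), f x = 1 ↔ Commute (x : G) z ∧ Commute (x : G) s := by
    intro x
    constructor
    · intro h
      have h0 := hp x 0
      have h1 := hp x 1
      have e0 : p x 0 = 0 := Equiv.ext_iff.1 h 0
      have e1 : p x 1 = 1 := Equiv.ext_iff.1 h 1
      rw [e0] at h0; rw [e1] at h1
      exact ⟨conj_eq_iff_comm.1 h0.symm, conj_eq_iff_comm.1 h1.symm⟩
    · rintro ⟨h1, h2⟩
      refine Equiv.ext fun i => hf x i i ?_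
      have h3 := h1.mul_right h2
      fin_cases i <;> exact conj_eq_iff_comm.2 (by first | exact h1.eq | exact h2.eq | exact h3.eq)
  set A : ↥(Q ⊔ Qs) := ⟨a, Subgroup.mem_sup_left ha⟩ with hA
  set B : ↥(Q ⊔ Qs) := ⟨b, Subgroup.mem_sup_right hb⟩ with hB
  have hfA : f A = Equiv.swap 1 2 := by
    refine Equiv.ext fun i => hf A i _ ?_
    have hzs' : a * (s * z) * a⁻¹ = s := by rw [← S.zs.eq]; exact hazs
    fin_cases i <;> simp [v, hA, haz, has, hzs', S.zs.eq, Equiv.swap_apply_def]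
  have hfB : f B = Equiv.swap 0 2 := by
    refine Equiv.ext fun i => hf B i _ ?_
    fin_cases i <;> simp [v, hB, hbs, hbz, hbzs, Equiv.swap_apply_def]
  set R := (Qs ⊓ Subgroup.centralizer ({z} : Set G)) ⊔ (Q ⊓ Subgroup.centralizer ({s} : Set G)) with hR
  set R' := R.subgroupOf (Q ⊔ Qs) with hR'
  haveI hRn : R'.Normal := (Subgroup.normal_subgroupOf_iff_le_normalizer S.R_le_X).2 S.le_normalizer_R
  -- each element of Q is in R or in A R
  have hQ2 : ∀ (x : ↥(Q ⊔ Qs)), (x : G) ∈ Q → (QuotientGroup.mk x : _ ⧸ R') = 1 ∨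
      (QuotientGroup.mk x : _ ⧸ R') = QuotientGroup.mk A := by
    intro x hx
    rcases S.hQ.comm x hx s S.hs with e | e
    · left
      rw [QuotientGroup.eq_one_iff]
      exact Subgroup.mem_sup_right ⟨hx, Subgroup.mem_centralizer_singleton_iff.2 (conj_eq_iff_comm.1 e)⟩
    · right
      rw [QuotientGroup.eq]
      refine Subgroup.mem_sup_right ⟨Q.mul_mem (Q.inv_mem hx) ha, Subgroup.mem_centralizer_singleton_iff.2 ?_⟩
      apply conj_eq_iff_comm.1
      simp only [Subgroup.coe_mul, Subgroup.coe_inv, hA]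
      calc (x : G)⁻¹ * a * s * ((x : G)⁻¹ * a)⁻¹ = (x : G)⁻¹ * (a * s * a⁻¹) * x := by group
        _ = s := by rw [has, ← e]; group
  have hQs2 : ∀ (x : ↥(Q ⊔ Qs)), (x : G) ∈ Qs → (QuotientGroup.mk x : _ ⧸ R') = 1 ∨
      (QuotientGroup.mk x : _ ⧸ R') = QuotientGroup.mk B := by
    intro x hx
    rcases S.hS.comm x hx z S.hz with e | e
    · left
      rw [QuotientGroup.eq_one_iff]
      exact Subgroup.mem_sup_left ⟨hx, Subgroup.mem_centralizer_singleton_iff.2 (conj_eq_iff_comm.1 e)⟩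
    · right
      rw [QuotientGroup.eq]
      refine Subgroup.mem_sup_left ⟨Qs.mul_mem (Qs.inv_mem hx) hb, Subgroup.mem_centralizer_singleton_iff.2 ?_⟩
      apply conj_eq_iff_comm.1
      simp only [Subgroup.coe_mul, Subgroup.coe_inv, hB]
      calc (x : G)⁻¹ * b * z * ((x : G)⁻¹ * b)⁻¹ = (x : G)⁻¹ * (b * z * b⁻¹) * x := by group
        _ = z := by rw [hbz, ← e]; group
  set A' := (QuotientGroup.mk A : ↥(Q ⊔ Qs) ⧸ R') with hA'
  set B' := (QuotientGroup.mk B : ↥(Q ⊔ Qs) ⧸ R') with hB'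
  have hne1 : ∀ x : ↥(Q ⊔ Qs), f x ≠ 1 → (QuotientGroup.mk x : _ ⧸ R') ≠ 1 := by
    intro x hx h
    rw [QuotientGroup.eq_one_iff] at h
    exact hx ((hker x).2 (S.R_commute h))
  have hAA : A' * A' = 1 := by
    refine ((hQ2 (A * A) (mul_mem ha ha)).resolve_right fun h => ?_)
    rw [QuotientGroup.mk_mul] at h
    exact hne1 A (by rw [hfA]; decide) (mul_eq_left.1 h)
  have hBB : B' * B' = 1 := by
    refine ((hQs2 (B * B) (mul_mem hb hb)).resolve_right fun h => ?_)
    rw [QuotientGroup.mk_mul] at h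
    exact hne1 B (by rw [hfB]; decide) (mul_eq_left.1 h)
  have hbraid : A' * B' * A' = B' * A' * B' := by
    have hτ : (a * b) * z * (a * b)⁻¹ = s := by
      rw [show (a * b) * z * (a * b)⁻¹ = a * (b * z * b⁻¹) * a⁻¹ by group, hbz, hazs]
    have hm : ((A * B * A * B⁻¹ * A⁻¹ : ↥(Q ⊔ Qs)) : G) ∈ Qs := by
      rw [S.transport _ hτ]
      simp only [Subgroup.coe_mul, Subgroup.coe_inv, hA, hB]
      simpa [mul_assoc] using ha
    have hne : (QuotientGroup.mk (A * B * A * B⁻¹ * A⁻¹) : _ ⧸ R') ≠ 1 := by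
      apply hne1
      rw [map_mul, map_mul, map_mul, map_mul, map_inv, map_inv, hfA, hfB]
      decide
    have h := (hQs2 _ hm).resolve_left hne
    rw [QuotientGroup.mk_mul, QuotientGroup.mk_mul, QuotientGroup.mk_mul, QuotientGroup.mk_mul,
      QuotientGroup.mk_inv, QuotientGroup.mk_inv, ← hA', ← hB', inv_eq_of_mul_eq_one_right hAA,
      inv_eq_of_mul_eq_one_right hBB] at h
    have h2 := congrArg (fun u => u * A' * B') h
    simpa [mul_assoc, hAA, hBB] using h2
  have hall : ∀ x : ↥(Q ⊔ Qs), (QuotientGroup.mk x : _ ⧸ R') = 1 ∨ f x ≠ 1 := by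
    have hword : ∀ x : ↥(Q ⊔ Qs), ∃ w ∈ [1, A, B, A * B, B * A, A * B * A],
        (QuotientGroup.mk x : _ ⧸ R') = QuotientGroup.mk w := by
      have stepA : ∀ w ∈ [1, A', B', A' * B', B' * A', A' * B' * A'],
          A' * w ∈ [1, A', B', A' * B', B' * A', A' * B' * A'] := by
        intro w hw
        simp only [List.mem_cons, List.not_mem_nil, or_false] at hw ⊢
        rcases hw with rfl | rfl | rfl | rfl | rfl | rfl
        · simp
        · simp [hAA]
        · simp
        · simp [← mul_assoc, hAA]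
        · simp [mul_assoc]
        · simp [← mul_assoc, hAA]
      have stepB : ∀ w ∈ [1, A', B', A' * B', B' * A', A' * B' * A'],
          B' * w ∈ [1, A', B', A' * B', B' * A', A' * B' * A'] := by
        intro w hw
        simp only [List.mem_cons, List.not_mem_nil, or_false] at hw ⊢
        rcases hw with rfl | rfl | rfl | rfl | rfl | rfl
        · simp
        · simp
        · simp [hBB]
        · simp [← mul_assoc, ← hbraid]
        · simp [← mul_assoc, hBB]
        · rw [hbraid]; simp [← mul_assoc, hBB]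
      have key : ∀ x : ↥(Q ⊔ Qs), ∀ w ∈ [1, A', B', A' * B', B' * A', A' * B' * A'],
          (QuotientGroup.mk x : _ ⧸ R') * w ∈ [1, A', B', A' * B', B' * A', A' * B' * A'] := by
        have gen : Subgroup.closure (((Q : Set G) ∪ Qs).preimage (Q ⊔ Qs).subtype) = ⊤ := by
          refine Subgroup.map_injective (Q ⊔ Qs).subtype_injective ?_
          rw [MonoidHom.map_closure, ← MonoidHom.range_eq_map, Subgroup.range_subtype,
            Set.image_preimage_eq_of_subset ?_, ← Subgroup.sup_eq_closure]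
          rw [Subgroup.coe_subtype, Subtype.range_coe]
          exact Set.union_subset (fun _ h => Subgroup.mem_sup_left h) (fun _ h => Subgroup.mem_sup_right h)
        intro x
        have hxm := gen.symm ▸ Subgroup.mem_top x
        induction hxm using Subgroup.closure_induction'' with
        | one => intro w hw; simpa using hw
        | mul x y _ _ hx hy =>
          intro w hw; rw [QuotientGroup.mk_mul, mul_assoc ↑x ↑y w]; exact hx _ (hy w hw)
        | mem x hx =>
          intro w hw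
          rcases hx with hx | hx
          · rcases hQ2 x hx with e | e <;> rw [e]
            exacts [(one_mul w).symm ▸ hw, stepA w hw]
          · rcases hQs2 x hx with e | e <;> rw [e]
            exacts [(one_mul w).symm ▸ hw, stepB w hw]
        | inv_mem x hx =>
          intro w hw
          rcases hx with hx | hx
          · rcases hQ2 x⁻¹ (by simpa using inv_mem (show (x : G) ∈ Q from hx)) with e | e <;> rw [e]
            exacts [(one_mul w).symm ▸ hw, stepA w hw]
          · rcases hQs2 x⁻¹ (by simpa using inv_mem (show (x : G) ∈ Qs from hx)) with e | e <;> rw [e]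
            exacts [(one_mul w).symm ▸ hw, stepB w hw]
      intro x
      have := key x 1 (by simp)
      simp only [mul_one, List.mem_cons, List.not_mem_nil, or_false] at this
      rcases this with e | e | e | e | e | e
      · exact ⟨1, by simp, e⟩
      · exact ⟨A, by simp, e⟩
      · exact ⟨B, by simp, e⟩
      · exact ⟨A * B, by simp, e⟩
      · exact ⟨B * A, by simp, e⟩
      · exact ⟨A * B * A, by simp, e⟩
    intro x
    obtain ⟨w, hw, hxw⟩ := hword x
    have hfw : f x = f w := by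
      have hm : (x⁻¹ * w : ↥(Q ⊔ Qs)) ∈ R' := QuotientGroup.eq.1 hxw
      have := (hker _).2 (S.R_commute (Subgroup.mem_subgroupOf.1 hm))
      rw [map_mul, map_inv, inv_mul_eq_one] at this
      exact this
    simp only [List.mem_cons, List.not_mem_nil, or_false] at hw
    rcases hw with rfl | rfl | rfl | rfl | rfl | rfl
    · exact Or.inl hxw
    all_goals right; rw [hfw]
    all_goals simp only [map_mul, hfA, hfB]
    all_goals decide
  refine ⟨f, ?_, hker, ?_⟩
  · intro σ
    have : σ ∈ [1, Equiv.swap 1 2, Equiv.swap 0 2, Equiv.swap 1 2 * Equiv.swap (0 : Fin 3) 2,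
        Equiv.swap 0 2 * Equiv.swap 1 2, Equiv.swap 1 2 * Equiv.swap 0 2 * Equiv.swap 1 2] := by
      revert σ; decide
    simp only [List.mem_cons, List.not_mem_nil, or_false] at this
    rcases this with rfl | rfl | rfl | rfl | rfl | rfl
    exacts [⟨1, map_one f⟩, ⟨A, hfA⟩, ⟨B, hfB⟩, ⟨A * B, by rw [map_mul, hfA, hfB]⟩,
      ⟨B * A, by rw [map_mul, hfA, hfB]⟩, ⟨A * B * A, by rw [map_mul, map_mul, hfA, hfB]⟩]
  · ext x
    rw [MonoidHom.mem_ker]
    exact ⟨fun h => (QuotientGroup.eq_one_iff x).1 ((hall x).resolve_right (not_not_intro h)),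
      fun h => (hker x).2 (S.R_commute h)⟩

end Setting

end Cfsg.Agent.Lib.ExtraTwo.Pair
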